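import Groth.Agent.FinSection.Core
import Groth.Agent.GeomRedFlat5.Open
import Mathlib.RingTheory.Localization.Integral
import Mathlib.AlgebraicGeometry.PullbackCarrier
import Mathlib.AlgebraicGeometry.Morphisms.UniversallyOpen
import Mathlib.AlgebraicGeometry.Morphisms.Finite

/-!
# Finite covers with local sections for universally open morphisms: the affine integral case
-/

set_option autoImplicit false
set_option linter.style.haveILetI false

open CategoryTheory Limits AlgebraicGeometry TensorProduct

namespace Groth.Agent.FinSection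

universe u

/-- `f` has sections locally over `Y'`. -/
def LocSec {X Y Y' : Scheme.{u}} (f : X ⟶ Y) (g : Y' ⟶ Y) : Prop :=
  ∀ y' : Y', ∃ U : Y'.Opens, y' ∈ U ∧ ∃ t : (U : Scheme.{u}) ⟶ X, t ≫ f = U.ι ≫ g

theorem LocSec.of_cover {X Y Y' : Scheme.{u}} {f : X ⟶ Y} {g : Y' ⟶ Y}
    (h : ∀ y' : Y', ∃ (W : Scheme.{u}) (j : W ⟶ Y') (_ : IsOpenImmersion j) (t : W ⟶ X),
      y' ∈ Set.range j ∧ t ≫ f = j ≫ g) : LocSec f g := by
  intro y'
  obtain ⟨W, j, hj, t, hy, ht⟩ := h y'
  exact ⟨j.opensRange, hy, j.isoOpensRange.inv ≫ t, by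
    rw [Category.assoc, ht, Scheme.Hom.isoOpensRange_inv_comp_assoc]⟩

variable (R : Type u) [CommRing R] [IsDomain R]

/-- The absolute integral closure. -/
abbrev Rbar : Type u := ↥(integralClosure R (AlgebraicClosure (FractionRing R)))

theorem isAlgClosed_fractionRing (O L : Type u) [CommRing O] [IsDomain O] [Field L] [Algebra O L]
    [IsFractionRing O L] [IsAlgClosed L] : IsAlgClosed (FractionRing O) :=
  IsAlgClosed.of_ringEquiv L _ (FractionRing.algEquiv O L).symm.toRingEquiv

omit [IsDomain R] in
/-- Spreading out the point: `S` is an absolutely integrally closed domain over `R`. -/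
theorem exists_local_hom (S L : Type u) [CommRing S] [IsDomain S] [IsIntegrallyClosed S] [Algebra R S]
    [Field L] [IsAlgClosed L] [Algebra S L] [IsFractionRing S L]
    (B : Type u) [CommRing B] [Algebra R B] [Algebra.FiniteType R B] (m : Ideal S) [m.IsPrime]
    (hpt : ∃ P : Ideal (Localization.AtPrime m ⊗[R] B), P.IsPrime ∧
      IsLocalRing.maximalIdeal (Localization.AtPrime m) ≤
        P.comap (algebraMap (Localization.AtPrime m) (Localization.AtPrime m ⊗[R] B)))
    (hopen : ∀ (V : Type u) [CommRing V] [Algebra R V], IsOpenMap (PrimeSpectrum.comap (algebraMap V (V ⊗[R] B)))) :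
    ∃ (g : S) (s : Finset S), g ∉ m ∧ ∀ (R2 : Subalgebra R S) (hg : g ∈ R2), ↑s ⊆ (R2 : Set S) →
      Nonempty (B →ₐ[R] Localization.Away (⟨g, hg⟩ : R2)) := by
  classical
  obtain ⟨P, hP, hPm⟩ := hpt
  have hle : m.primeCompl ≤ nonZeroDivisors S := Ideal.primeCompl_le_nonZeroDivisors m
  haveI : IsIntegrallyClosed (Localization.AtPrime m) :=
    isIntegrallyClosed_of_isLocalization (Localization.AtPrime m) m.primeCompl hle
  let lO : Localization.AtPrime m →+* L := IsLocalization.lift (M := m.primeCompl) (g := algebraMap S L)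
    fun y => IsLocalization.map_units L (⟨y.1, hle y.2⟩ : nonZeroDivisors S)
  letI : Algebra (Localization.AtPrime m) L := lO.toAlgebra
  have hlO : ∀ x, lO (algebraMap S (Localization.AtPrime m) x) = algebraMap S L x := fun x =>
    IsLocalization.lift_eq _ x
  haveI : IsScalarTower S (Localization.AtPrime m) L := IsScalarTower.of_algebraMap_eq fun x => (hlO x).symm
  haveI : IsFractionRing (Localization.AtPrime m) L :=
    IsFractionRing.isFractionRing_of_isDomain_of_isLocalization m.primeCompl (Localization.AtPrime m) L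
  haveI := isAlgClosed_fractionRing (Localization.AtPrime m) L
  haveI := hP
  obtain ⟨σ₀⟩ := exists_point P hPm (fun V _ _ => by
    letI : Algebra R V :=
      ((algebraMap (Localization.AtPrime m) V).comp (algebraMap R (Localization.AtPrime m))).toAlgebra
    haveI : IsScalarTower R (Localization.AtPrime m) V := IsScalarTower.of_algebraMap_eq fun _ => rfl
    let e := Algebra.TensorProduct.cancelBaseChange R (Localization.AtPrime m) V V B
    let E := e.symm.toAlgHom.toRingHom
    let E' := e.toAlgHom.toRingHom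
    have hc : algebraMap V (V ⊗[Localization.AtPrime m] (Localization.AtPrime m ⊗[R] B)) =
        E.comp (algebraMap V (V ⊗[R] B)) := RingHom.ext fun v => (e.symm.toAlgHom.commutes v).symm
    have h1 : ∀ Q, PrimeSpectrum.comap E (PrimeSpectrum.comap E' Q) = Q := fun Q => by
      ext y
      show e (e.symm y) ∈ Q.asIdeal ↔ _
      rw [AlgEquiv.apply_symm_apply]
    have h2 : ∀ Q, PrimeSpectrum.comap E' (PrimeSpectrum.comap E Q) = Q := fun Q => by
      ext y
      show e.symm (e y) ∈ Q.asIdeal ↔ _
      rw [AlgEquiv.symm_apply_apply]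
    have hEo : IsOpenMap (PrimeSpectrum.comap E) :=
      IsOpenMap.of_inverse (PrimeSpectrum.continuous_comap E') h1 h2
    rw [hc, PrimeSpectrum.comap_comp]
    exact (hopen V).comp hEo)
  let σ : B →ₐ[R] Localization.AtPrime m :=
    (σ₀.restrictScalars R).comp (Algebra.TensorProduct.includeRight : B →ₐ[R] Localization.AtPrime m ⊗[R] B)
  obtain ⟨gens, hgens⟩ := (inferInstance : Algebra.FiniteType R B).out
  obtain ⟨⟨g, hgm⟩, hg⟩ := IsLocalization.exist_integer_multiples m.primeCompl gens σ
  choose! num hnum using hg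
  refine ⟨g, gens.image num, hgm, fun R2 hg2 hs => ?_⟩
  let G : R2 := ⟨g, hg2⟩
  have hinjL : Function.Injective (algebraMap S L) := IsFractionRing.injective S L
  have hG : algebraMap S L g ≠ 0 := fun h =>
    hgm ((hinjL (h.trans (map_zero _).symm) : g = 0) ▸ m.zero_mem)
  letI : Algebra R L := ((algebraMap S L).comp (algebraMap R S)).toAlgebra
  haveI : IsScalarTower R S L := IsScalarTower.of_algebraMap_eq fun _ => rfl
  let fR : R2 →ₐ[R] L := (IsScalarTower.toAlgHom R S L).comp R2.val
  let lA : Localization.Away G →ₐ[R] L :=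
    IsLocalization.liftAlgHom (M := Submonoid.powers G) (f := fR) (by
      rintro ⟨_, n, rfl⟩
      refine isUnit_iff_ne_zero.2 ?_
      rw [map_pow]
      exact pow_ne_zero _ hG)
  have hlA : ∀ a : R2, lA (algebraMap R2 (Localization.Away G) a) = algebraMap S L (a : S) := fun a =>
    IsLocalization.lift_eq _ a
  have hlAinj : Function.Injective lA := by
    refine (injective_iff_map_eq_zero lA).2 fun z hz => ?_
    obtain ⟨a, b, rfl⟩ := IsLocalization.exists_mk'_eq (Submonoid.powers G) z
    have h1 := congrArg lA (IsLocalization.mk'_spec (Localization.Away G) a b)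
    rw [map_mul, hz, zero_mul, hlA] at h1
    rw [show a = 0 from Subtype.ext (hinjL (h1.symm.trans (map_zero _).symm)), IsLocalization.mk'_zero]
  let σL : B →ₐ[R] L :=
    { lO.comp σ.toRingHom with
      commutes' := fun r => by
        show lO (σ (algebraMap R B r)) = _
        rw [AlgHom.commutes, IsScalarTower.algebraMap_apply R S (Localization.AtPrime m)]
        exact hlO _ }
  have hrange : ∀ b, σL b ∈ lA.range := by
    suffices Algebra.adjoin R (gens : Set B) ≤ lA.range.comap σL from fun b => this (hgens ▸ Algebra.mem_top)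
    refine Algebra.adjoin_le fun a ha => ?_
    have h1 := congrArg lO (hnum a ha)
    rw [Algebra.smul_def, map_mul, hlO, hlO] at h1
    have hn : num a ∈ R2 := hs (Finset.mem_coe.2 (Finset.mem_image_of_mem num ha))
    refine ⟨IsLocalization.mk' (Localization.Away G) (⟨num a, hn⟩ : R2) ⟨G, Submonoid.mem_powers G⟩, ?_⟩
    refine mul_left_cancel₀ hG (Eq.trans ?_ h1)
    have h2 := congrArg lA (IsLocalization.mk'_spec (Localization.Away G) (⟨num a, hn⟩ : R2)
      ⟨G, Submonoid.mem_powers G⟩)
    rw [map_mul, hlA, hlA, mul_comm] at h2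
    exact h2
  exact ⟨(AlgEquiv.ofInjective lA hlAinj).symm.toAlgHom.comp (σL.codRestrict _ hrange)⟩

theorem local_point {X : Scheme.{u}} (f : X ⟶ Spec (CommRingCat.of R)) [UniversallyOpen f] [Surjective f]
    [LocallyOfFiniteType f] (m : Ideal (Rbar R)) [m.IsPrime] :
    ∃ (g : Rbar R) (s : Finset (Rbar R)), g ∉ m ∧
      ∀ (R2 : Subalgebra R (Rbar R)) (hg : g ∈ R2), ↑s ⊆ (R2 : Set (Rbar R)) →
        ∃ t : Spec (CommRingCat.of (Localization.Away (⟨g, hg⟩ : R2))) ⟶ X,
          t ≫ f = Spec.map (CommRingCat.ofHom (algebraMap R (Localization.Away (⟨g, hg⟩ : R2)))) := by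
  classical
  let L := AlgebraicClosure (FractionRing R)
  haveI : Algebra.IsAlgebraic R (FractionRing R) := IsLocalization.isAlgebraic (FractionRing R) (nonZeroDivisors R)
  haveI : Algebra.IsAlgebraic R L := Algebra.IsAlgebraic.trans R (FractionRing R) L
  have hRL : Function.Injective (algebraMap R L) := by
    rw [IsScalarTower.algebraMap_eq R (FractionRing R) L]
    exact (algebraMap (FractionRing R) L).injective.comp (IsFractionRing.injective R (FractionRing R))
  haveI : IsFractionRing (Rbar R) L := integralClosure.isFractionRing_of_algebraic (A := R) (L := L)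
    fun x hx => hRL (hx.trans (map_zero _).symm)
  haveI : IsIntegrallyClosed (Rbar R) := .of_isIntegrallyClosed_of_isIntegrallyClosedIn _ L
  obtain ⟨x, hx⟩ := f.surjective (⟨m.comap (algebraMap R (Rbar R)), inferInstance⟩ : PrimeSpectrum R)
  obtain ⟨U, hU, hxU, -⟩ := exists_isAffineOpen_mem_and_subset (U := (⊤ : X.Opens)) (x := x) trivial
  let φ : CommRingCat.of R ⟶ Γ(X, U) := Spec.preimage (hU.fromSpec ≫ f)
  have hφ : Spec.map φ = hU.fromSpec ≫ f := Spec.map_preimage _
  letI : Algebra R Γ(X, U) := φ.hom.toAlgebra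
  haveI : Algebra.FiniteType R Γ(X, U) := by
    have h : LocallyOfFiniteType (Spec.map φ) := by rw [hφ]; infer_instance
    exact (HasRingHomProperty.Spec_iff (P := @LocallyOfFiniteType)).1 h
  haveI hUO : UniversallyOpen (Spec.map (CommRingCat.ofHom (algebraMap R Γ(X, U)))) := by
    show UniversallyOpen (Spec.map φ)
    rw [hφ]; infer_instance
  have hPex : ∃ P : Ideal (Localization.AtPrime m ⊗[R] Γ(X, U)), P.IsPrime ∧
      IsLocalRing.maximalIdeal (Localization.AtPrime m) ≤
        P.comap (algebraMap (Localization.AtPrime m) (Localization.AtPrime m ⊗[R] Γ(X, U))) := by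
    obtain ⟨p, hp⟩ : x ∈ Set.range hU.fromSpec := by rw [hU.range_fromSpec]; exact hxU
    let O := Localization.AtPrime m
    have hpt : Spec.map (CommRingCat.ofHom (algebraMap R Γ(X, U))) p =
        Spec.map (CommRingCat.ofHom (algebraMap R O)) (IsLocalRing.closedPoint O) := by
      show Spec.map φ p = _
      rw [hφ, Scheme.Hom.comp_apply, hp, hx]
      refine PrimeSpectrum.ext ?_
      show m.comap (algebraMap R (Rbar R)) = (IsLocalRing.maximalIdeal O).comap (algebraMap R O)
      rw [IsScalarTower.algebraMap_eq R (Rbar R) O, ← Ideal.comap_comap]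
      exact congrArg (Ideal.comap _) (Localization.AtPrime.under_maximalIdeal (I := m)).symm
    obtain ⟨w, -, hw⟩ := Scheme.Pullback.exists_preimage_pullback
      (f := Spec.map (CommRingCat.ofHom (algebraMap R Γ(X, U))))
      (g := Spec.map (CommRingCat.ofHom (algebraMap R O))) p (IsLocalRing.closedPoint O) hpt
    have sq := GeomRedFlat5.isPullback_tensor R O Γ(X, U)
    have h2 : Spec.map (CommRingCat.ofHom (S := O ⊗[R] Γ(X, U)) Algebra.TensorProduct.includeLeftRingHom)
        (sq.isoPullback.inv w) = IsLocalRing.closedPoint O := by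
      rw [← Scheme.Hom.comp_apply, sq.isoPullback_inv_snd]
      exact hw
    exact ⟨_, PrimeSpectrum.isPrime _, (congrArg PrimeSpectrum.asIdeal h2).ge⟩
  have hop : ∀ (V : Type u) [CommRing V] [Algebra R V],
      IsOpenMap (PrimeSpectrum.comap (algebraMap V (V ⊗[R] Γ(X, U)))) := by
    intro V _ _
    have := MorphismProperty.of_isPullback (P := @UniversallyOpen)
      (GeomRedFlat5.isPullback_tensor R V Γ(X, U)) hUO
    exact (Spec.map (CommRingCat.ofHom (S := V ⊗[R] Γ(X, U)) Algebra.TensorProduct.includeLeftRingHom)).isOpenMap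
  obtain ⟨g, s, hg, hh⟩ := exists_local_hom R (Rbar R) L Γ(X, U) m hPex hop
  refine ⟨g, s, hg, fun R2 hg2 hs => ?_⟩
  obtain ⟨τ⟩ := hh R2 hg2 hs
  refine ⟨Spec.map (CommRingCat.ofHom τ.toRingHom) ≫ hU.fromSpec, ?_⟩
  rw [Category.assoc, ← hφ, ← Spec.map_comp]
  exact congrArg Spec.map (CommRingCat.hom_ext τ.comp_algebraMap)

/-- A finite surjective cover of an affine integral base with local sections. -/
theorem exists_cover_domain {X : Scheme.{u}} (f : X ⟶ Spec (CommRingCat.of R)) [UniversallyOpen f] [Surjective f]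
    [LocallyOfFiniteType f] :
    ∃ (Y' : Scheme.{u}) (π : Y' ⟶ Spec (CommRingCat.of R)), IsFinite π ∧ Surjective π ∧ LocSec f π := by
  classical
  choose g s hg ht using fun m : PrimeSpectrum (Rbar R) => local_point R f m.asIdeal
  have htop : Ideal.span (Set.range g) = ⊤ := by
    by_contra h
    obtain ⟨M, hM, hle⟩ := Ideal.exists_le_maximal _ h
    exact hg ⟨M, hM.isPrime⟩ (hle (Ideal.subset_span ⟨_, rfl⟩))
  obtain ⟨T, c, hc⟩ : ∃ (T : Finset (PrimeSpectrum (Rbar R))) (c : PrimeSpectrum (Rbar R) → Rbar R),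
      ∑ i ∈ T, c i * g i = 1 := by
    obtain ⟨l, hl⟩ := Finsupp.mem_span_range_iff_exists_finsupp.1 ((Ideal.eq_top_iff_one _).1 htop)
    exact ⟨l.support, l, hl⟩
  let S : Finset (Rbar R) := T.biUnion fun i => insert (g i) (insert (c i) (s i))
  let R2 : Subalgebra R (Rbar R) := Algebra.adjoin R ↑S
  have hS : ∀ i ∈ T, g i ∈ R2 ∧ c i ∈ R2 ∧ ↑(s i) ⊆ (R2 : Set (Rbar R)) := by
    intro i hi
    have hsub : ↑(insert (g i) (insert (c i) (s i))) ⊆ (R2 : Set (Rbar R)) := fun a ha =>
      Algebra.subset_adjoin (Finset.mem_coe.2 (Finset.mem_biUnion.2 ⟨i, hi, ha⟩))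
    exact ⟨hsub (by simp), hsub (by simp), fun a ha => hsub (by simp [Finset.mem_coe.1 ha])⟩
  haveI : Algebra.IsIntegral R (Rbar R) := IsIntegralClosure.isIntegral_algebra R (AlgebraicClosure (FractionRing R))
  haveI : Module.Finite R R2 :=
    Algebra.finite_adjoin_of_finite_of_isIntegral S.finite_toSet fun x _ => Algebra.IsIntegral.isIntegral x
  let π := Spec.map (CommRingCat.ofHom (algebraMap R R2))
  have hinj : Function.Injective (algebraMap R R2) := fun a b hab => by
    have h2 : algebraMap R (AlgebraicClosure (FractionRing R)) a = algebraMap R _ b :=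
      congrArg (fun z : R2 => ((z : Rbar R) : AlgebraicClosure (FractionRing R))) hab
    rw [IsScalarTower.algebraMap_apply R (FractionRing R) (AlgebraicClosure (FractionRing R)),
      IsScalarTower.algebraMap_apply R (FractionRing R) (AlgebraicClosure (FractionRing R))] at h2
    exact IsFractionRing.injective R (FractionRing R) ((algebraMap (FractionRing R) _).injective h2)
  refine ⟨Spec (CommRingCat.of R2), π, ?_, ⟨fun q => ?_⟩, LocSec.of_cover fun q => ?_⟩
  · exact (IsFinite.SpecMap_iff _).2 (RingHom.finite_algebraMap.2 inferInstance)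
  · haveI : FaithfulSMul R R2 := (faithfulSMul_iff_algebraMap_injective _ _).2 hinj
    haveI : Algebra.IsIntegral R R2 := Algebra.IsIntegral.of_finite R R2
    exact Algebra.IsIntegral.comap_surjective R R2 q
  · obtain ⟨i, hi, hq⟩ : ∃ i, ∃ hi : i ∈ T, (⟨g i, (hS i hi).1⟩ : R2) ∉ q.asIdeal := by
      by_contra h
      push Not at h
      refine q.2.ne_top ((Ideal.eq_top_iff_one _).2 ?_)
      have h1 : (∑ i ∈ T.attach, (⟨c i.1, (hS i.1 i.2).2.1⟩ : R2) * ⟨g i.1, (hS i.1 i.2).1⟩) = 1 := by
        apply Subtype.ext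
        push_cast
        rw [Finset.sum_attach T (fun i => c i * g i), hc]
      rw [← h1]
      exact Ideal.sum_mem _ fun i _ => q.asIdeal.mul_mem_left _ (h i.1 i.2)
    obtain ⟨t, ht'⟩ := ht i R2 (hS i hi).1 (hS i hi).2.2
    let G : R2 := ⟨g i, (hS i hi).1⟩
    refine ⟨_, Spec.map (CommRingCat.ofHom (algebraMap R2 (Localization.Away G))),
      IsOpenImmersion.of_isLocalization G, t, ?_, ?_⟩
    · rw [show Set.range (Spec.map (CommRingCat.ofHom (algebraMap R2 (Localization.Away G)))) =
        (PrimeSpectrum.basicOpen G : Set (PrimeSpectrum R2)) from PrimeSpectrum.localization_away_comap_range _ G]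
      exact hq
    · rw [ht', ← Spec.map_comp, ← CommRingCat.ofHom_comp, ← IsScalarTower.algebraMap_eq]

end Groth.Agent.FinSection
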