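import Groth.Agent.FinSection.Zmt
import Groth.Agent.UnivOpen.UnibranchAlg
import Mathlib.RingTheory.ZariskisMainTheorem
import Mathlib.RingTheory.NoetherNormalization
import Mathlib.RingTheory.IntegralClosure.GoingDown
import Mathlib.RingTheory.Spectrum.Prime.Topology
import Mathlib.FieldTheory.IsAlgClosed.AlgebraicClosure

/-!
# Points of universally open algebras over absolutely integrally closed local domains

If `O` is a normal local domain with algebraically closed fraction field and `B` is an algebra of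
finite type whose spectrum is universally open over `O` and meets the closed fibre, then there is an
`O`-point `B → O`.
-/

set_option autoImplicit false
set_option linter.style.haveILetI false

open IsLocalRing TensorProduct

namespace Groth.Agent.FinSection

universe u

/-- A prime over the maximal ideal comes from the special fibre. -/
theorem exists_prime_special {O B : Type u} [CommRing O] [IsLocalRing O] [CommRing B] [Algebra O B]
    (Q : Ideal B) [Q.IsPrime] (hQ : maximalIdeal O ≤ Q.comap (algebraMap O B)) :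
    ∃ Q0 : Ideal (ResidueField O ⊗[O] B), Q0.IsPrime ∧
      Q0.comap (Algebra.TensorProduct.includeRight : B →ₐ[O] ResidueField O ⊗[O] B).toRingHom = Q := by
  let αk : ResidueField O →ₐ[O] B ⧸ Q :=
    { Ideal.Quotient.lift (maximalIdeal O) (algebraMap O (B ⧸ Q)) (fun a ha =>
        Ideal.Quotient.eq_zero_iff_mem.2 (hQ ha)) with
      commutes' := fun _ => rfl }
  let l : ResidueField O ⊗[O] B →ₐ[O] B ⧸ Q :=
    Algebra.TensorProduct.lift αk (Ideal.Quotient.mkₐ O Q) fun _ _ => .all _ _
  refine ⟨RingHom.ker l.toRingHom, RingHom.ker_isPrime _, ?_⟩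
  ext b
  show l (1 ⊗ₜ b) = 0 ↔ _
  rw [Algebra.TensorProduct.lift_tmul, map_one, one_mul]
  exact Ideal.Quotient.eq_zero_iff_mem

/-- An open map of spectra to a valuation domain lifts the generic point. -/
theorem exists_generization {V C : Type u} [CommRing V] [IsDomain V] [CommRing C] [Algebra V C]
    (hopen : IsOpenMap (PrimeSpectrum.comap (algebraMap V C))) (Q : Ideal C) [Q.IsPrime] :
    ∃ q : Ideal C, q.IsPrime ∧ q ≤ Q ∧ q.comap (algebraMap V C) = ⊥ := by
  let S := Q.primeCompl ⊔ (nonZeroDivisors V).map (algebraMap V C).toMonoidHom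
  have hdisj : Disjoint ((⊥ : Ideal C) : Set C) S := by
    rw [Set.disjoint_left]
    intro s hs hsS
    obtain ⟨h, hh, _, ⟨v, hv, rfl⟩, rfl⟩ := Submonoid.mem_sup.1 hsS
    have ho := hopen _ (PrimeSpectrum.basicOpen h).isOpen
    have hmem : PrimeSpectrum.comap (algebraMap V C) ⟨Q, inferInstance⟩ ∈
        PrimeSpectrum.comap (algebraMap V C) '' (PrimeSpectrum.basicOpen h : Set (PrimeSpectrum C)) :=
      ⟨_, hh, rfl⟩
    have hgen : (⟨⊥, Ideal.isPrime_bot⟩ : PrimeSpectrum V) ∈
        PrimeSpectrum.comap (algebraMap V C) '' (PrimeSpectrum.basicOpen h : Set (PrimeSpectrum C)) :=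
      ((PrimeSpectrum.le_iff_specializes _ _).1 bot_le).mem_open ho hmem
    obtain ⟨P, hP, he⟩ := hgen
    have hz : h * algebraMap V C v ∈ P.asIdeal := by
      rw [show h * algebraMap V C v = 0 from hs]; exact zero_mem _
    have hv' : v ∈ P.asIdeal.comap (algebraMap V C) := (P.2.mem_or_mem hz).resolve_left hP
    rw [show P.asIdeal.comap (algebraMap V C) = ⊥ from congrArg PrimeSpectrum.asIdeal he] at hv'
    exact nonZeroDivisors.ne_zero hv hv'
  obtain ⟨q, hq, -, hqS⟩ := Ideal.exists_le_prime_disjoint ⊥ S hdisj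
  refine ⟨q, hq, fun x hx => by_contra fun hxQ => Set.disjoint_left.1 hqS hx (Submonoid.mem_sup_left hxQ),
    eq_bot_iff.2 fun v hv => ?_⟩
  by_contra hv0
  exact Set.disjoint_left.1 hqS hv
    (Submonoid.mem_sup_right ⟨v, mem_nonZeroDivisors_of_ne_zero (fun h => hv0 (h ▸ Submodule.zero_mem _)), rfl⟩)

/-- A nonzero polynomial over a valuation ring is a nonzero constant times a polynomial with a
coefficient one. -/
theorem exists_primitive {K : Type u} {σ : Type*} [Field K] (V : ValuationSubring K) (p : MvPolynomial σ V) (hp : p ≠ 0) :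
    ∃ (c : V) (p₁ : MvPolynomial σ V) (i : σ →₀ ℕ), c ≠ 0 ∧ p = MvPolynomial.C c * p₁ ∧ p₁.coeff i = 1 := by
  classical
  obtain ⟨i, hi, hmax⟩ := Finset.exists_max_image p.support (fun m => V.valuation ((p.coeff m : V) : K))
    (MvPolynomial.support_nonempty.2 hp)
  have hc : p.coeff i ≠ 0 := MvPolynomial.mem_support_iff.1 hi
  have hdiv : ∀ m ∈ p.support, ∃ a : V, a * p.coeff i = p.coeff m := fun m hm => by
    obtain ⟨a, ha⟩ := (V.valuation_le_iff _ _).1 (hmax m hm)
    exact ⟨a, Subtype.ext ha⟩
  choose! a ha using hdiv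
  refine ⟨p.coeff i, ∑ m ∈ p.support, MvPolynomial.monomial m (a m), i, hc, ?_, ?_⟩
  · conv_lhs => rw [p.as_sum]
    rw [Finset.mul_sum]
    refine Finset.sum_congr rfl fun m hm => ?_
    rw [MvPolynomial.C_mul_monomial, mul_comm, ha m hm]
  · rw [MvPolynomial.coeff_sum, Finset.sum_eq_single i]
    · rw [MvPolynomial.coeff_monomial, if_pos rfl]
      exact mul_right_cancel₀ hc ((ha i hi).trans (one_mul _).symm)
    · intro m _ hm
      rw [MvPolynomial.coeff_monomial, if_neg hm]
    · exact fun h => absurd hi h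

variable {O B : Type u} [CommRing O] [IsDomain O] [IsLocalRing O] [CommRing B] [Algebra O B]

/-- A generic-fibre prime over which `e` prescribed elements, finite over the special fibre, stay
independent. -/
theorem exists_prime_independent {e : ℕ} (b : Fin e → B)
    (g : MvPolynomial (Fin e) (ResidueField O) →ₐ[ResidueField O] ResidueField O ⊗[O] B)
    (hgi : Function.Injective g) (hgf : g.Finite) (hb : ∀ i, g (MvPolynomial.X i) = 1 ⊗ₜ b i)
    (hopen : ∀ (V : Type u) [CommRing V] [Algebra O V],
      IsOpenMap (PrimeSpectrum.comap (algebraMap V (V ⊗[O] B)))) :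
    ∃ (z : Ideal (ResidueField O ⊗[O] B)) (q : Ideal B), z.IsPrime ∧ q.IsPrime ∧
      z.comap g.toRingHom = ⊥ ∧
      q ≤ z.comap (Algebra.TensorProduct.includeRight : B →ₐ[O] ResidueField O ⊗[O] B).toRingHom ∧
      ∀ p : MvPolynomial (Fin e) O, MvPolynomial.aeval b p ∈ q → p = 0 := by
  let K := FractionRing O
  obtain ⟨V, hV, hloc⟩ := IsLocalRing.exists_factor_valuationRing (algebraMap O K)
  let ι : O →+* V := (algebraMap O K).codRestrict V.toSubring hV
  letI : Algebra O V := ι.toAlgebra
  haveI : IsLocalHom (algebraMap O V) := hloc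
  have hι : Function.Injective (algebraMap O V) := fun x y h =>
    IsFractionRing.injective O K (congrArg Subtype.val h)
  let kV := ResidueField V
  let T := MvPolynomial (Fin e) kV
  let Ω := AlgebraicClosure (FractionRing T)
  let ρ : ResidueField O →+* kV := ResidueField.map (algebraMap O V)
  let φ : MvPolynomial (Fin e) (ResidueField O) →+* Ω := (algebraMap T Ω).comp (MvPolynomial.map ρ)
  have hTΩ : Function.Injective (algebraMap T Ω) := by
    rw [IsScalarTower.algebraMap_eq T (FractionRing T) Ω]
    exact (algebraMap (FractionRing T) Ω).injective.comp (IsFractionRing.injective T (FractionRing T))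
  have hφ : RingHom.ker φ = ⊥ :=
    (RingHom.injective_iff_ker_eq_bot φ).1 (hTΩ.comp (MvPolynomial.map_injective ρ ρ.injective))
  letI : Algebra (MvPolynomial (Fin e) (ResidueField O)) (ResidueField O ⊗[O] B) := g.toRingHom.toAlgebra
  haveI : Module.Finite (MvPolynomial (Fin e) (ResidueField O)) (ResidueField O ⊗[O] B) := hgf
  obtain ⟨z, -, hz, hz0⟩ := Ideal.exists_ideal_over_prime_of_isIntegral
    (⊥ : Ideal (MvPolynomial (Fin e) (ResidueField O))) (⊥ : Ideal (ResidueField O ⊗[O] B))
    ((RingHom.ker_eq_comap_bot _).symm.trans ((RingHom.injective_iff_ker_eq_bot _).1 hgi)).le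
  haveI := hz
  obtain ⟨θ, hθ, hθz⟩ := UnivOpen.exists_lift_of_integral φ z (hz0.trans hφ.symm)
  let π : B →ₐ[O] ResidueField O ⊗[O] B := Algebra.TensorProduct.includeRight
  have hθO : ∀ a : O, θ (π (algebraMap O B a)) = algebraMap O Ω a := fun a => by
    rw [AlgHom.commutes, IsScalarTower.algebraMap_apply O (ResidueField O) (ResidueField O ⊗[O] B),
      ← g.commutes, ← show algebraMap (MvPolynomial (Fin e) (ResidueField O)) (ResidueField O ⊗[O] B)
        (algebraMap (ResidueField O) (MvPolynomial (Fin e) (ResidueField O)) (algebraMap O (ResidueField O) a)) =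
        g (algebraMap (ResidueField O) (MvPolynomial (Fin e) (ResidueField O)) (algebraMap O (ResidueField O) a))
        from rfl, hθ, IsScalarTower.algebraMap_apply O T Ω, IsScalarTower.algebraMap_apply O kV T]
    show algebraMap T Ω (MvPolynomial.map ρ (MvPolynomial.C (residue O a))) = _
    rw [MvPolynomial.map_C]
    rfl
  let θB : B →ₐ[O] Ω := { θ.comp π.toRingHom with commutes' := hθO }
  let ev : V ⊗[O] B →ₐ[V] Ω := Algebra.TensorProduct.lift (Algebra.ofId V Ω) θB fun _ _ => .all _ _
  haveI : (RingHom.ker ev.toRingHom).IsPrime := RingHom.ker_isPrime _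
  obtain ⟨q', hq', hq'le, hq'bot⟩ := exists_generization (hopen V) (RingHom.ker ev.toRingHom)
  let bV : Fin e → V ⊗[O] B := fun i => 1 ⊗ₜ b i
  have hev : ∀ p : MvPolynomial (Fin e) V, ev (MvPolynomial.aeval bV p) =
      algebraMap T Ω (MvPolynomial.map (residue V) p) := by
    suffices h : ev.toRingHom.comp (MvPolynomial.aeval (R := V) bV).toRingHom =
        (algebraMap T Ω).comp (MvPolynomial.map (residue V)) from fun p => DFunLike.congr_fun h p
    refine MvPolynomial.ringHom_ext (fun v => ?_) fun i => ?_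
    · show ev (MvPolynomial.aeval bV (MvPolynomial.C v)) = algebraMap T Ω (MvPolynomial.map (residue V) (MvPolynomial.C v))
      rw [MvPolynomial.aeval_C, AlgHom.commutes, MvPolynomial.map_C,
        IsScalarTower.algebraMap_apply V T Ω, IsScalarTower.algebraMap_apply V kV T]
      rfl
    · show ev (MvPolynomial.aeval bV (MvPolynomial.X i)) = algebraMap T Ω (MvPolynomial.map (residue V) (MvPolynomial.X i))
      rw [MvPolynomial.aeval_X, MvPolynomial.map_X, Algebra.TensorProduct.lift_tmul, map_one, one_mul]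
      show θ (π (b i)) = _
      rw [show π (b i) = g (MvPolynomial.X i) from (hb i).symm]
      refine (hθ (MvPolynomial.X i)).trans ?_
      show algebraMap T Ω (MvPolynomial.map ρ (MvPolynomial.X i)) = _
      rw [MvPolynomial.map_X]
  let inR : B →ₐ[O] V ⊗[O] B := Algebra.TensorProduct.includeRight
  refine ⟨z, q'.comap inR.toRingHom, hz, inferInstance, hz0, fun x hx => ?_, fun p hp => ?_⟩
  · have h : ev (1 ⊗ₜ x) = 0 := hq'le hx
    rw [Algebra.TensorProduct.lift_tmul, map_one, one_mul] at h
    rw [← hθz]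
    exact h
  have hp' : MvPolynomial.aeval bV (MvPolynomial.map (algebraMap O V) p) ∈ q' := by
    rw [MvPolynomial.aeval_map_algebraMap, show bV = (fun i => inR (b i)) from rfl, ← MvPolynomial.comp_aeval_apply]
    exact hp
  by_contra hp0
  have hp1 : MvPolynomial.map (algebraMap O V) p ≠ 0 := fun h =>
    hp0 (MvPolynomial.map_injective _ hι (h.trans (map_zero _).symm))
  obtain ⟨c, p₁, i, hc, he, h1⟩ := exists_primitive V _ hp1
  rw [he, map_mul, MvPolynomial.aeval_C] at hp'
  have hc' : algebraMap V (V ⊗[O] B) c ∉ q' := fun h => by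
    have : c ∈ q'.comap (algebraMap V (V ⊗[O] B)) := h
    rw [hq'bot] at this
    exact hc this
  have h0 := hq'le ((hq'.mem_or_mem hp').resolve_left hc')
  rw [RingHom.mem_ker] at h0
  have h0' : MvPolynomial.map (residue V) p₁ = 0 := hTΩ ((hev p₁).symm.trans (h0.trans (map_zero _).symm))
  have := congrArg (MvPolynomial.coeff i) h0'
  rw [MvPolynomial.coeff_map, h1, map_one, MvPolynomial.coeff_zero] at this
  exact one_ne_zero this

variable [IsIntegrallyClosed O] [Algebra.FiniteType O B]

/-- **Existence of points.** -/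
theorem exists_point [IsAlgClosed (FractionRing O)] (P : Ideal B) [P.IsPrime]
    (hP : maximalIdeal O ≤ P.comap (algebraMap O B))
    (hopen : ∀ (V : Type u) [CommRing V] [Algebra O V],
      IsOpenMap (PrimeSpectrum.comap (algebraMap V (V ⊗[O] B)))) :
    Nonempty (B →ₐ[O] O) := by
  classical
  let k := ResidueField O
  let B0 := k ⊗[O] B
  let π : B →ₐ[O] B0 := Algebra.TensorProduct.includeRight
  have hπ : Function.Surjective π := Algebra.TensorProduct.includeRight_surjective _ residue_surjective
  haveI : Nontrivial B0 := by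
    obtain ⟨Q0, hQ0, -⟩ := exists_prime_special P hP
    exact nontrivial_of_ne (0 : B0) 1 fun h => hQ0.ne_top ((Ideal.eq_top_iff_one _).2 (h ▸ zero_mem _))
  haveI : Algebra.FiniteType k B0 := inferInstance
  obtain ⟨e, g, hgi, hgf⟩ := exists_finite_inj_algHom_of_fg k B0
  choose b hb using fun i => hπ (g (MvPolynomial.X i))
  obtain ⟨z, q, hz, hq, hz0, hqz, hind⟩ := exists_prime_independent b g hgi hgf (fun i => (hb i).symm) hopen
  -- the point of the special fibre
  let A := MvPolynomial (Fin e) O
  let cc : A →+* O := MvPolynomial.constantCoeff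
  let rk : A →+* MvPolynomial (Fin e) k := MvPolynomial.map (residue O)
  have hψ : ∀ p : A, π (MvPolynomial.aeval b p) = g (rk p) := by
    suffices h : π.toRingHom.comp (MvPolynomial.aeval (R := O) b).toRingHom = g.toRingHom.comp rk from
      fun p => DFunLike.congr_fun h p
    refine MvPolynomial.ringHom_ext (fun v => ?_) fun i => ?_
    · show π (MvPolynomial.aeval b (MvPolynomial.C v)) = g (rk (MvPolynomial.C v))
      rw [MvPolynomial.aeval_C, AlgHom.commutes, show rk (MvPolynomial.C v) = MvPolynomial.C (residue O v) from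
        MvPolynomial.map_C _ _]
      refine Eq.trans ?_ (g.commutes (residue O v)).symm
      exact IsScalarTower.algebraMap_apply O k B0 v
    · show π (MvPolynomial.aeval b (MvPolynomial.X i)) = g (rk (MvPolynomial.X i))
      rw [MvPolynomial.aeval_X, show rk (MvPolynomial.X i) = MvPolynomial.X i from MvPolynomial.map_X _ _, hb]
  let M0 : Ideal (MvPolynomial (Fin e) k) := RingHom.ker MvPolynomial.constantCoeff
  haveI : M0.IsPrime := RingHom.ker_isPrime _
  letI alg0 : Algebra (MvPolynomial (Fin e) k) B0 := g.toRingHom.toAlgebra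
  haveI : Module.Finite (MvPolynomial (Fin e) k) B0 := hgf
  obtain ⟨x0, hx0z, hx0, hx0M⟩ := Ideal.exists_ideal_over_prime_of_isIntegral M0 z
    ((le_of_eq hz0).trans bot_le)
  haveI := hx0
  let x : Ideal B := x0.comap π.toRingHom
  have hqx : q ≤ x := hqz.trans (Ideal.comap_mono hx0z)
  haveI := hq
  let D := B ⧸ q
  let ψA : A →+* D := (Ideal.Quotient.mk q).comp (MvPolynomial.aeval (R := O) b).toRingHom
  have hψA : Function.Injective ψA := (injective_iff_map_eq_zero _).2 fun p hp =>
    hind p (Ideal.Quotient.eq_zero_iff_mem.1 hp)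
  letI : Algebra A D := ψA.toAlgebra
  haveI : IsScalarTower O A D := IsScalarTower.of_algebraMap_eq fun a => by
    show _ = Ideal.Quotient.mk q (MvPolynomial.aeval b (MvPolynomial.C a))
    rw [MvPolynomial.aeval_C]
    rfl
  haveI : FaithfulSMul A D := (faithfulSMul_iff_algebraMap_injective _ _).2 hψA
  haveI : Algebra.FiniteType A D := Algebra.FiniteType.of_restrictScalars_finiteType O A D
  have hxmap : RingHom.ker (Ideal.Quotient.mk q) ≤ x := by rw [Ideal.mk_ker]; exact hqx
  let xD : Ideal D := x.map (Ideal.Quotient.mk q)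
  haveI : xD.IsPrime := Ideal.map_isPrime_of_surjective Ideal.Quotient.mk_surjective hxmap
  have hxD : xD.comap (Ideal.Quotient.mk q) = x := by
    rw [Ideal.comap_map_of_surjective _ Ideal.Quotient.mk_surjective]
    exact sup_eq_left.2 hxmap
  let N : Ideal A := (RingHom.ker MvPolynomial.constantCoeff : Ideal (MvPolynomial (Fin e) k)).comap rk
  have hN : ∀ (Q : Ideal D) (Q0 : Ideal B0), Q0.comap π.toRingHom = Q.comap (Ideal.Quotient.mk q) →
      Q.comap (algebraMap A D) = (Q0.comap g.toRingHom).comap rk := fun Q Q0 h => by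
    ext p
    show MvPolynomial.aeval b p ∈ Q.comap (Ideal.Quotient.mk q) ↔ g (rk p) ∈ Q0
    rw [← h, ← hψ]
    rfl
  have hxN : xD.comap (algebraMap A D) = N := by
    rw [hN xD x0 hxD.symm]
    exact congrArg (Ideal.comap rk) hx0M
  -- quasi-finiteness
  haveI : Algebra.QuasiFiniteAt A xD := by
    refine Algebra.QuasiFiniteAt.of_isOpen_singleton_fiber ⟨xD, inferInstance⟩ ?_
    let nk : PrimeSpectrum (MvPolynomial (Fin e) k) := ⟨M0, inferInstance⟩
    have hdisc := Algebra.QuasiFinite.isDiscrete_comap_preimage_singleton (S := B0) nk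
    rw [isDiscrete_iff_discreteTopology] at hdisc
    have hopen0 := isOpen_discrete ({⟨⟨x0, hx0⟩, PrimeSpectrum.ext hx0M⟩} :
      Set ↥(PrimeSpectrum.comap (algebraMap (MvPolynomial (Fin e) k) B0) ⁻¹' {nk}))
    obtain ⟨U0, hU0, hU0e⟩ := isOpen_induced_iff.1 hopen0
    have hemb := (PrimeSpectrum.isClosedEmbedding_comap_of_surjective B0 π.toRingHom hπ).isEmbedding
    obtain ⟨U, hU, rfl⟩ := hemb.isInducing.isOpen_iff.1 hU0
    refine isOpen_induced_iff.2 ⟨PrimeSpectrum.comap (Ideal.Quotient.mk q) ⁻¹' U,
      hU.preimage (PrimeSpectrum.continuous_comap _), ?_⟩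
    ext ⟨Q, hQ⟩
    have hQN : Q.asIdeal.comap (algebraMap A D) = N :=
      (congrArg PrimeSpectrum.asIdeal hQ).trans hxN
    obtain ⟨Q0, hQ0, hQ0e⟩ := exists_prime_special (Q.asIdeal.comap (Ideal.Quotient.mk q)) fun a ha => by
      have : algebraMap O A a ∈ N := by
        show MvPolynomial.constantCoeff (rk (MvPolynomial.C a)) = 0
        rw [show rk (MvPolynomial.C a) = MvPolynomial.C (residue O a) from MvPolynomial.map_C _ _,
          MvPolynomial.constantCoeff_C, residue_eq_zero_iff]
        exact ha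
      rw [← hQN] at this
      show algebraMap O D a ∈ Q.asIdeal
      rw [IsScalarTower.algebraMap_apply O A D]
      exact this
    have hfib : PrimeSpectrum.comap (algebraMap (MvPolynomial (Fin e) k) B0) ⟨Q0, hQ0⟩ = nk := by
      refine PrimeSpectrum.ext (Ideal.comap_injective_of_surjective rk ?_ ((hN Q.asIdeal Q0 hQ0e).symm.trans hQN))
      exact MvPolynomial.map_surjective _ residue_surjective
    have himg : PrimeSpectrum.comap (Ideal.Quotient.mk q) Q = PrimeSpectrum.comap π.toRingHom ⟨Q0, hQ0⟩ :=
      PrimeSpectrum.ext hQ0e.symm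
    simp only [Set.mem_preimage, Set.mem_singleton_iff]
    rw [himg]
    constructor
    · intro h
      have h' : (⟨⟨Q0, hQ0⟩, hfib⟩ : ↥(PrimeSpectrum.comap (algebraMap (MvPolynomial (Fin e) k) B0) ⁻¹' {nk})) ∈
          ({⟨⟨x0, hx0⟩, PrimeSpectrum.ext hx0M⟩} : Set _) := hU0e.le h
      have h'' := congrArg (fun w => PrimeSpectrum.comap π.toRingHom w.1) (Set.mem_singleton_iff.1 h')
      refine Subtype.ext (PrimeSpectrum.comap_injective_of_surjective (Ideal.Quotient.mk q)
        Ideal.Quotient.mk_surjective ?_)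
      rw [himg]
      exact h''.trans (PrimeSpectrum.ext hxD.symm)
    · intro h
      have hmem := hU0e.ge (Set.mem_singleton (⟨⟨x0, hx0⟩, PrimeSpectrum.ext hx0M⟩ :
        ↥(PrimeSpectrum.comap (algebraMap (MvPolynomial (Fin e) k) B0) ⁻¹' {nk})))
      rw [← himg, show Q = (⟨xD, inferInstance⟩ : PrimeSpectrum D) from congrArg Subtype.val h,
        show PrimeSpectrum.comap (Ideal.Quotient.mk q) (⟨xD, inferInstance⟩ : PrimeSpectrum D) =
          PrimeSpectrum.comap π.toRingHom ⟨x0, hx0⟩ from PrimeSpectrum.ext hxD]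
      exact hmem
  obtain ⟨r, hrx, hri, hrb⟩ := Algebra.zariskisMainProperty_iff.1
    (Algebra.ZariskisMainProperty.of_finiteType (R := A) xD)
  -- going down
  haveI := UnivOpen.isIntegrallyClosed_mvPolynomial O (ULift.{u} (Fin e))
  haveI : IsIntegrallyClosed A :=
    IsIntegrallyClosed.of_equiv (R := MvPolynomial (ULift.{u} (Fin e)) O)
      (MvPolynomial.renameEquiv O Equiv.ulift).toRingEquiv
  let C := integralClosure A D
  haveI : Algebra.IsIntegral A C := IsIntegralClosure.isIntegral_algebra A D
  haveI : FaithfulSMul A C := (faithfulSMul_iff_algebraMap_injective _ _).2 fun x y h =>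
    hψA (congrArg Subtype.val h)
  let Pc : Ideal C := xD.comap (algebraMap C D)
  haveI : Pc.LiesOver N := ⟨by rw [Ideal.under_def, Ideal.comap_comap, ← IsScalarTower.algebraMap_eq, hxN]⟩
  haveI : N.IsPrime := Ideal.IsPrime.comap _
  have hccN : RingHom.ker cc ≤ N := fun p hp => by
    show MvPolynomial.constantCoeff (MvPolynomial.map (residue O) p) = 0
    rw [MvPolynomial.constantCoeff_map, RingHom.mem_ker.1 hp, map_zero]
  haveI : (RingHom.ker cc).IsPrime := RingHom.ker_isPrime _
  obtain ⟨q3, hq3P, hq3, hq3cc⟩ := Ideal.exists_ideal_le_liesOver_of_le Pc hccN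
  haveI := hq3
  let K := FractionRing O
  obtain ⟨χ, hχ, hχker⟩ := UnivOpen.exists_lift_of_integral ((algebraMap O K).comp cc) q3 (by
    rw [← RingHom.comap_ker, (RingHom.injective_iff_ker_eq_bot _).1 (IsFractionRing.injective O K),
      ← RingHom.ker_eq_comap_bot]
    exact hq3cc.over.symm)
  have hχO : ∀ c : C, ∃ a : O, algebraMap O K a = χ c := fun c => by
    refine IsIntegrallyClosed.isIntegral_iff.1 ?_
    obtain ⟨P₀, hP₀, he⟩ := Algebra.IsIntegral.isIntegral (R := A) c
    refine ⟨P₀.map cc, hP₀.map _, ?_⟩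
    rw [Polynomial.eval₂_map]
    have := congrArg χ he
    rw [Polynomial.hom_eval₂, map_zero] at this
    rw [← this]
    congr 1
    exact RingHom.ext fun p => (hχ p).symm
  let r' : C := ⟨r, hri⟩
  obtain ⟨a, ha⟩ := hχO r'
  have haU : IsUnit a := by
    by_contra hu
    refine hrx (show r' ∈ Pc from ?_)
    have h1 : r' - algebraMap A C (MvPolynomial.C a) ∈ q3 := by
      rw [← hχker, RingHom.mem_ker, map_sub, hχ, sub_eq_zero, ← ha]
      show _ = algebraMap O K (MvPolynomial.constantCoeff (MvPolynomial.C a))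
      rw [MvPolynomial.constantCoeff_C]
    have h2 : algebraMap A C (MvPolynomial.C a) ∈ Pc := by
      refine (Ideal.mem_of_liesOver Pc N _).1 ?_
      show MvPolynomial.constantCoeff (MvPolynomial.map (residue O) (MvPolynomial.C a)) = 0
      rw [MvPolynomial.map_C, MvPolynomial.constantCoeff_C, residue_eq_zero_iff]
      exact (mem_maximalIdeal a).2 hu
    simpa using add_mem (hq3P h1) h2
  have hχr : χ r' ≠ 0 := by
    rw [← ha]
    exact fun h => haU.ne_zero (IsFractionRing.injective O K (h.trans (map_zero _).symm))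
  obtain ⟨ψ, hψC, hψD⟩ := exists_extend r hri hrb χ hχr
  have hψO : ∀ d : D, ∃ o : O, algebraMap O K o = ψ d := fun d => by
    obtain ⟨m, c, hc⟩ := hψD d
    obtain ⟨o, ho⟩ := hχO c
    refine ⟨o * (haU.unit⁻¹ : Oˣ) ^ m, ?_⟩
    refine mul_right_cancel₀ (pow_ne_zero m hχr) ?_
    rw [hc, ← ho, ← ha, map_mul, map_pow, mul_assoc, ← mul_pow, ← map_mul, IsUnit.val_inv_mul,
      map_one, one_pow, mul_one]
  let ψB : B →ₐ[O] K :=
    { ψ.comp (Ideal.Quotient.mk q) with
      commutes' := fun v => by
        show ψ (algebraMap O D v) = _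
        rw [IsScalarTower.algebraMap_apply O A D,
          show algebraMap A D (algebraMap O A v) = ((algebraMap A C (algebraMap O A v) : C) : D) from rfl, hψC, hχ]
        show algebraMap O K (MvPolynomial.constantCoeff (MvPolynomial.C v)) = _
        rw [MvPolynomial.constantCoeff_C] }
  let eO : O ≃ₐ[O] (Algebra.ofId O K).range := AlgEquiv.ofInjective (Algebra.ofId O K) (IsFractionRing.injective O K)
  exact ⟨eO.symm.toAlgHom.comp (ψB.codRestrict _ fun y => hψO (Ideal.Quotient.mk q y))⟩

end Groth.Agent.FinSection
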