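import Groth.Agent.FinSection.Affine
import Groth.Agent.UnivOpenFin5.FiniteExtend
import Groth.Agent.SGA1Q.SigmaFinite
import Mathlib.AlgebraicGeometry.Limits
import Mathlib.AlgebraicGeometry.IdealSheaf.Subscheme
import Mathlib.RingTheory.Ideal.MinimalPrime.Noetherian

/-!
# Finite covers with local sections for universally open morphisms (EGA IV 14.5.10)
-/

set_option autoImplicit false
set_option linter.style.haveILetI false

open CategoryTheory Limits AlgebraicGeometry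

namespace Groth.Agent.FinSection

universe u

/-- The affine Noetherian case. -/
theorem exists_cover_affine (R : Type u) [CommRing R] [IsNoetherianRing R] {X : Scheme.{u}}
    (f : X ⟶ Spec (CommRingCat.of R)) [UniversallyOpen f] [Surjective f] [LocallyOfFiniteType f] :
    ∃ (Y' : Scheme.{u}) (π : Y' ⟶ Spec (CommRingCat.of R)), IsFinite π ∧ Surjective π ∧ LocSec f π := by
  classical
  haveI : Finite ↥((⊥ : Ideal R).minimalPrimes) := (Ideal.finite_minimalPrimes_of_isNoetherianRing R ⊥).to_subtype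
  haveI : ∀ p : ↥((⊥ : Ideal R).minimalPrimes), IsDomain (R ⧸ p.1) := fun p =>
    (Ideal.Quotient.isDomain_iff_prime _).2 p.2.1.1
  let c : ∀ p : ↥((⊥ : Ideal R).minimalPrimes), Spec (CommRingCat.of (R ⧸ p.1)) ⟶ Spec (CommRingCat.of R) :=
    fun p => Spec.map (CommRingCat.ofHom (Ideal.Quotient.mk p.1))
  haveI : ∀ p, IsClosedImmersion (c p) := fun p =>
    IsClosedImmersion.spec_of_surjective _ Ideal.Quotient.mk_surjective
  choose T v hfin hsurj hsec using fun p : ↥((⊥ : Ideal R).minimalPrimes) =>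
    exists_cover_domain (R ⧸ p.1) (pullback.snd f (c p))
  refine ⟨∐ T, Sigma.desc fun p => v p ≫ c p,
    SGA1Q.isFinite_sigmaDesc _ fun p => by haveI := hfin p; infer_instance, ⟨fun q => ?_⟩,
    LocSec.of_cover fun y' => ?_⟩
  · obtain ⟨p, hp, hpq⟩ := Ideal.exists_minimalPrimes_le (I := (⊥ : Ideal R)) (J := q.asIdeal) bot_le
    obtain ⟨q', hq'⟩ : q ∈ Set.range (c ⟨p, hp⟩) := by
      show q ∈ Set.range (PrimeSpectrum.comap (Ideal.Quotient.mk p))
      rw [range_comap_of_surjective _ _ Ideal.Quotient.mk_surjective, Ideal.mk_ker]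
      exact hpq
    haveI := hsurj ⟨p, hp⟩
    obtain ⟨t, rfl⟩ := (v ⟨p, hp⟩).surjective q'
    refine ⟨Sigma.ι T ⟨p, hp⟩ t, ?_⟩
    rw [← Scheme.Hom.comp_apply, Sigma.ι_desc, Scheme.Hom.comp_apply, hq']
  · obtain ⟨p, a, rfl⟩ := (sigmaOpenCover T).exists_eq y'
    obtain ⟨U, hU, t, ht⟩ := hsec p a
    refine ⟨_, U.ι ≫ Sigma.ι T p, inferInstance, t ≫ pullback.fst f (c p), ?_, ?_⟩
    · obtain ⟨a', rfl⟩ : a ∈ Set.range U.ι := by rw [Scheme.Opens.range_ι]; exact hU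
      exact ⟨a', Scheme.Hom.comp_apply _ _ _⟩
    · rw [Category.assoc, pullback.condition, ← Category.assoc, ht, Category.assoc, Category.assoc, Sigma.ι_desc]

variable {X Y : Scheme.{u}}

/-- `f` has sections locally over the points of `Y'` lying over `W`. -/
def LocSecOn (f : X ⟶ Y) {Y' : Scheme.{u}} (g : Y' ⟶ Y) (W : Set Y) : Prop :=
  ∀ y' : Y', g y' ∈ W → ∃ (T : Scheme.{u}) (j : T ⟶ Y') (_ : IsOpenImmersion j) (t : T ⟶ X),
    y' ∈ Set.range j ∧ t ≫ f = j ≫ g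

theorem exists_cover_on_affine [IsNoetherian Y] (f : X ⟶ Y) [UniversallyOpen f] [Surjective f]
    [LocallyOfFiniteType f] {V : Y.Opens} (hV : IsAffineOpen V) :
    ∃ (Y' : Scheme.{u}) (π : Y' ⟶ Y), IsFinite π ∧ Surjective π ∧ LocSecOn f π (V : Set Y) := by
  haveI : IsNoetherianRing Γ(Y, V) := IsLocallyNoetherian.component_noetherian ⟨V, hV⟩
  obtain ⟨T, v₀, hv₀, hs₀, hsec⟩ := exists_cover_affine Γ(Y, V) (pullback.snd f hV.fromSpec)
  let v : T ⟶ (V : Scheme.{u}) := v₀ ≫ hV.isoSpec.inv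
  haveI : IsFinite v := inferInstance
  haveI : Surjective v := inferInstance
  obtain ⟨Y₁, π₁, i, hi, hπ₁, hiπ⟩ := UnivOpenFin5.exists_finite_extend hV v
  have hsub : ∀ a : T, π₁ (i a) ∈ V := fun a => by
    rw [← Scheme.Hom.comp_apply, hiπ, Scheme.Hom.comp_apply]
    exact (v a).2
  -- the image of `i` is closed over `V`
  let l : T ⟶ (π₁ ⁻¹ᵁ V : Scheme.{u}) := IsOpenImmersion.lift (π₁ ⁻¹ᵁ V).ι i (by
    rw [Scheme.Opens.range_ι]
    rintro _ ⟨a, rfl⟩
    exact hsub a)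
  have hl : l ≫ (π₁ ⁻¹ᵁ V).ι = i := IsOpenImmersion.lift_fac _ _ _
  have hlv : l ≫ (π₁ ∣_ V) = v := by
    rw [← cancel_mono V.ι, Category.assoc, morphismRestrict_ι, ← Category.assoc, hl, hiπ]
  haveI : IsFinite (π₁ ∣_ V) := MorphismProperty.of_isPullback (P := @IsFinite)
    (isPullback_morphismRestrict π₁ V).flip hπ₁
  haveI : IsFinite (l ≫ π₁ ∣_ V) := by rw [hlv]; infer_instance
  haveI : IsFinite l := IsFinite.of_comp l (π₁ ∣_ V)
  have hcl : ∀ a : Y₁, π₁ a ∈ V → a ∈ closure (Set.range i) → a ∈ Set.range i := by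
    intro a haV ha
    obtain ⟨a', rfl⟩ : a ∈ Set.range (π₁ ⁻¹ᵁ V).ι := by rw [Scheme.Opens.range_ι]; exact haV
    have h1 : a' ∈ closure (Set.range l) := by
      rw [(π₁ ⁻¹ᵁ V).ι.isOpenEmbedding.isInducing.closure_eq_preimage_closure_image, Set.mem_preimage,
        ← Set.range_comp, ← TopCat.coe_comp, ← Scheme.Hom.comp_base, hl]
      exact ha
    obtain ⟨b, rfl⟩ := (l.isClosedMap.isClosed_range.closure_eq).le h1
    exact ⟨b, by rw [← hl]; rfl⟩
  let Z₁ : TopologicalSpace.Closeds Y₁ := ⟨closure (Set.range i), isClosed_closure⟩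
  let Z₂ : TopologicalSpace.Closeds Y := ⟨(V : Set Y)ᶜ, V.isOpen.isClosed_compl⟩
  let j₁ := (Scheme.IdealSheafData.vanishingIdeal Z₁).subschemeι
  let j₂ := (Scheme.IdealSheafData.vanishingIdeal Z₂).subschemeι
  have hr₁ : Set.range j₁ = closure (Set.range i) := by
    rw [Scheme.IdealSheafData.range_subschemeι, Scheme.IdealSheafData.coe_support_vanishingIdeal]
    rfl
  have hr₂ : Set.range j₂ = (V : Set Y)ᶜ := by
    rw [Scheme.IdealSheafData.range_subschemeι, Scheme.IdealSheafData.coe_support_vanishingIdeal]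
    rfl
  haveI : IsFinite (j₁ ≫ π₁) := inferInstance
  haveI : IsFinite j₂ := inferInstance
  refine ⟨_, coprod.desc (j₁ ≫ π₁) j₂, inferInstance, ⟨fun y => ?_⟩, fun y' hy' => ?_⟩
  · by_cases hy : y ∈ V
    · obtain ⟨a, ha⟩ := v.surjective ⟨y, hy⟩
      obtain ⟨b, hb⟩ : i a ∈ Set.range j₁ := hr₁.ge (subset_closure ⟨a, rfl⟩)
      refine ⟨(coprod.inl : _ ⟶ _ ⨿ (Scheme.IdealSheafData.vanishingIdeal Z₂).subscheme) b, ?_⟩
      rw [← Scheme.Hom.comp_apply, coprod.inl_desc, Scheme.Hom.comp_apply, hb, ← Scheme.Hom.comp_apply, hiπ,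
        Scheme.Hom.comp_apply, ha]
      rfl
    · obtain ⟨b, hb⟩ : y ∈ Set.range j₂ := hr₂.ge hy
      refine ⟨(coprod.inr : _ ⟶ (Scheme.IdealSheafData.vanishingIdeal Z₁).subscheme ⨿ _) b, ?_⟩
      rw [← Scheme.Hom.comp_apply, coprod.inr_desc, hb]
  · obtain ⟨b, rfl⟩ | ⟨b, rfl⟩ : y' ∈ Set.range (coprod.inl : (Scheme.IdealSheafData.vanishingIdeal Z₁).subscheme ⟶ _) ∨
        y' ∈ Set.range (coprod.inr : (Scheme.IdealSheafData.vanishingIdeal Z₂).subscheme ⟶ _) :=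
      (Set.eq_univ_iff_forall.1 (AlgebraicGeometry.isCompl_range_inl_inr _ _).sup_eq_top y')
    · rw [← Scheme.Hom.comp_apply, coprod.inl_desc, Scheme.Hom.comp_apply] at hy'
      obtain ⟨a, ha⟩ := hcl _ hy' (hr₁.le ⟨b, rfl⟩)
      obtain ⟨U, hU, t, ht⟩ := hsec a
      obtain ⟨a', rfl⟩ : a ∈ Set.range U.ι := by rw [Scheme.Opens.range_ι]; exact hU
      let W := j₁ ⁻¹ᵁ (U.ι ≫ i).opensRange
      let m : (W : Scheme.{u}) ⟶ (U : Scheme.{u}) := IsOpenImmersion.lift (U.ι ≫ i) (W.ι ≫ j₁) (by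
        rintro _ ⟨w, rfl⟩
        exact w.2)
      refine ⟨_, W.ι ≫ coprod.inl, inferInstance, m ≫ t ≫ pullback.fst f hV.fromSpec, ?_, ?_⟩
      · obtain ⟨w, hw⟩ : b ∈ Set.range W.ι := by
          rw [Scheme.Opens.range_ι]; exact ⟨a', ha⟩
        exact ⟨w, by rw [Scheme.Hom.comp_apply, hw]⟩
      · have h1 : v₀ ≫ hV.fromSpec = i ≫ π₁ := by
          rw [hiπ]
          exact (Category.assoc _ _ _).symm
        rw [Category.assoc, Category.assoc, pullback.condition, ← Category.assoc t, ht, Category.assoc, h1,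
          Category.assoc, coprod.inl_desc, ← Category.assoc U.ι, ← Category.assoc m, IsOpenImmersion.lift_fac,
          Category.assoc]
    · rw [← Scheme.Hom.comp_apply, coprod.inr_desc] at hy'
      exact absurd hy' (hr₂.le ⟨b, rfl⟩)

/-- EGA IV 14.5.10. -/
theorem exists_cover [IsNoetherian Y] (f : X ⟶ Y) [UniversallyOpen f] [Surjective f] [LocallyOfFiniteType f] :
    ∃ (Y' : Scheme.{u}) (π : Y' ⟶ Y), IsFinite π ∧ Surjective π ∧ LocSec f π := by
  classical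
  obtain ⟨s, hs⟩ := (isCompact_univ (X := Y)).elim_finite_subcover (fun V : Y.affineOpens => ((V : Y.Opens) : Set Y))
    (fun V => V.1.isOpen) (fun y _ => by
      obtain ⟨V, hV, hy, -⟩ := exists_isAffineOpen_mem_and_subset (U := (⊤ : Y.Opens)) (x := y) trivial
      exact Set.mem_iUnion.2 ⟨⟨V, hV⟩, hy⟩)
  suffices h : ∀ s : Finset Y.affineOpens, ∃ (Y' : Scheme.{u}) (π : Y' ⟶ Y), IsFinite π ∧ Surjective π ∧
      LocSecOn f π (⋃ V ∈ s, ((V : Y.Opens) : Set Y)) by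
    obtain ⟨Y', π, h1, h2, h3⟩ := h s
    exact ⟨Y', π, h1, h2, LocSec.of_cover fun y' => h3 y' (hs (Set.mem_univ _))⟩
  intro s
  induction s using Finset.induction with
  | empty => exact ⟨Y, 𝟙 Y, inferInstance, inferInstance, fun y' hy' => by simp at hy'⟩
  | insert V s hVs ih =>
    obtain ⟨Y₁, π₁, h1, h2, h3⟩ := ih
    obtain ⟨Y₂, π₂, k1, k2, k3⟩ := exists_cover_on_affine f V.2
    refine ⟨pullback π₁ π₂, pullback.fst π₁ π₂ ≫ π₁, inferInstance, inferInstance, fun y' hy' => ?_⟩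
    rw [Finset.set_biUnion_insert, Scheme.Hom.comp_apply] at hy'
    rcases hy' with h | h
    · have h' : π₂ (pullback.snd π₁ π₂ y') ∈ (V : Y.Opens) := by
        rw [← Scheme.Hom.comp_apply, ← pullback.condition, Scheme.Hom.comp_apply]; exact h
      obtain ⟨T, j, hj, t, hjy, ht⟩ := k3 _ h'
      let W := pullback.snd π₁ π₂ ⁻¹ᵁ j.opensRange
      refine ⟨_, W.ι, inferInstance, IsOpenImmersion.lift j (W.ι ≫ pullback.snd π₁ π₂) (by
        rintro _ ⟨w, rfl⟩; exact w.2) ≫ t, ?_, ?_⟩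
      · rw [Scheme.Opens.range_ι]; exact hjy
      · rw [Category.assoc, ht, IsOpenImmersion.lift_fac_assoc, Category.assoc, pullback.condition]
    · obtain ⟨T, j, hj, t, hjy, ht⟩ := h3 _ h
      let W := pullback.fst π₁ π₂ ⁻¹ᵁ j.opensRange
      refine ⟨_, W.ι, inferInstance, IsOpenImmersion.lift j (W.ι ≫ pullback.fst π₁ π₂) (by
        rintro _ ⟨w, rfl⟩; exact w.2) ≫ t, ?_, ?_⟩
      · rw [Scheme.Opens.range_ι]; exact hjy
      · rw [Category.assoc, ht, IsOpenImmersion.lift_fac_assoc, Category.assoc]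

end Groth.Agent.FinSection
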