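import Mathlib.RingTheory.IntegralClosure.IntegralRestrict
import Mathlib.RingTheory.IntegralClosure.Algebra.Basic
import Mathlib.RingTheory.IntegralClosure.IsIntegralClosure.Basic

/-!
# Extending a point of the integral closure away from an element
-/

set_option autoImplicit false
set_option linter.style.haveILetI false

namespace Groth.Agent.FinSection

universe u

/-- A ring map from the integral closure to a field that does not kill `r` extends when `r` clears
denominators. -/
theorem exists_extend {A D K : Type u} [CommRing A] [CommRing D] [Algebra A D] [Field K]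
    (r : D) (hr : IsIntegral A r) (hb : ∀ b : D, ∃ m : ℕ, IsIntegral A (r ^ m * b))
    (χ : integralClosure A D →+* K) (hχ : χ ⟨r, hr⟩ ≠ 0) :
    ∃ ψ : D →+* K, (∀ c : integralClosure A D, ψ (c : D) = χ c) ∧
      ∀ b : D, ∃ (m : ℕ) (c : integralClosure A D), ψ b * χ ⟨r, hr⟩ ^ m = χ c := by
  choose m hm using hb
  let r' : integralClosure A D := ⟨r, hr⟩
  let val : D → K := fun b => χ ⟨_, hm b⟩ / χ r' ^ m b
  have key : ∀ (b : D) (n : ℕ) (c : integralClosure A D), (c : D) = r ^ n * b →
      val b * χ r' ^ n = χ c := by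
    intro b n c hc
    have h : r' ^ n * (⟨_, hm b⟩ : integralClosure A D) = r' ^ m b * c := Subtype.ext (by
      push_cast
      show r ^ n * (r ^ m b * b) = r ^ m b * (c : D)
      rw [hc]; ring)
    have h' := congrArg χ h
    rw [map_mul, map_mul, map_pow, map_pow] at h'
    show χ ⟨_, hm b⟩ / χ r' ^ m b * χ r' ^ n = χ c
    rw [div_mul_eq_mul_div, div_eq_iff (pow_ne_zero _ hχ), mul_comm, h', mul_comm]
  have hint : ∀ c : integralClosure A D, val c = χ c := fun c => by
    have := key c 0 c (by simp)
    simpa using this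
  let ψ : D →+* K :=
    { toFun := val
      map_one' := by simpa using hint 1
      map_zero' := by simpa using hint 0
      map_mul' := fun a b => by
        have h := key (a * b) (m a + m b) (⟨_, hm a⟩ * ⟨_, hm b⟩) (by
          push_cast; rw [pow_add]; ring)
        rw [map_mul, ← key a (m a) ⟨_, hm a⟩ rfl, ← key b (m b) ⟨_, hm b⟩ rfl, pow_add] at h
        exact mul_right_cancel₀ (mul_ne_zero (pow_ne_zero (m a) hχ) (pow_ne_zero (m b) hχ))
          (h.trans (by ring))
      map_add' := fun a b => by
        have h := key (a + b) (m a + m b) (r' ^ m b * ⟨_, hm a⟩ + r' ^ m a * ⟨_, hm b⟩) (by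
          push_cast
          show r ^ m b * (r ^ m a * a) + r ^ m a * (r ^ m b * b) = _
          rw [pow_add]; ring)
        rw [map_add, map_mul, map_mul, map_pow, map_pow, ← key a (m a) ⟨_, hm a⟩ rfl,
          ← key b (m b) ⟨_, hm b⟩ rfl, pow_add] at h
        exact mul_right_cancel₀ (mul_ne_zero (pow_ne_zero (m a) hχ) (pow_ne_zero (m b) hχ))
          (h.trans (by ring)) }
  exact ⟨ψ, hint, fun b => ⟨m b, ⟨_, hm b⟩, key b (m b) _ rfl⟩⟩

end Groth.Agent.FinSection
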